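import Cfsg.Agent.Forms.OfBilin
import Mathlib.NumberTheory.LegendreSymbol.QuadraticChar.Basic
import Mathlib.LinearAlgebra.Matrix.BilinearForm

/-!
Symmetric bilinear forms over finite fields of odd order; small lemmas on quadratic forms.
-/

set_option autoImplicit false
set_option linter.style.haveILetI false

namespace CfsgLib.Forms

open QuadraticMap Polynomial

variable {F : Type*} [Field F] [Finite F]

theorem odd_card_of_two_ne (h2 : (2 : F) ≠ 0) : Nat.card F % 2 = 1 := by
  haveI := Fintype.ofFinite F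
  rw [Nat.card_eq_fintype_card]
  refine FiniteField.odd_card_of_char_ne_two fun h => h2 ?_
  haveI : CharP F 2 := ringChar.of_eq h
  exact CharP.cast_eq_zero F 2

theorem exists_binary (h2 : (2 : F) ≠ 0) {a b : F} (ha : a ≠ 0) (hb : b ≠ 0) (c : F) :
    ∃ x y : F, a * x ^ 2 + b * y ^ 2 = c := by
  haveI := Fintype.ofFinite F
  have hodd : Fintype.card F % 2 = 1 := by
    rw [← Nat.card_eq_fintype_card]; exact odd_card_of_two_ne h2
  have hf : (Polynomial.C a * Polynomial.X ^ 2 + Polynomial.C (-c)).degree = 2 := by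
    rw [Polynomial.degree_add_C (by rw [Polynomial.degree_C_mul_X_pow 2 ha]; decide),
      Polynomial.degree_C_mul_X_pow 2 ha]; rfl
  have hg : (Polynomial.C b * Polynomial.X ^ 2).degree = 2 := Polynomial.degree_C_mul_X_pow 2 hb
  obtain ⟨x, y, e⟩ := FiniteField.exists_root_sum_quadratic hf hg hodd
  refine ⟨x, y, ?_⟩
  simp at e
  linear_combination e

theorem isSquare_div_of_nonsquare (h2 : (2 : F) ≠ 0) {a b : F} (ha : ¬IsSquare a)
    (hb : ¬IsSquare b) : IsSquare (a / b) := by
  haveI := Fintype.ofFinite F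
  classical
  have hchar : ringChar F ≠ 2 := fun h => h2 (by
    haveI : CharP F 2 := ringChar.of_eq h
    exact CharP.cast_eq_zero F 2)
  have hb0 : b ≠ 0 := by rintro rfl; exact hb ⟨0, by simp⟩
  have ha0 : a ≠ 0 := by rintro rfl; exact ha ⟨0, by simp⟩
  rw [← quadraticChar_neg_one_iff_not_isSquare] at ha hb
  rw [← quadraticChar_one_iff_isSquare (div_ne_zero ha0 hb0)]
  have h := map_mul (quadraticChar F) (a / b) b
  rw [div_mul_cancel₀ a hb0, ha, hb, mul_neg, mul_one] at h
  omega

theorem exists_value_rep (h2 : (2 : F) ≠ 0) {α : F} (hα : ¬IsSquare α) {d : F} (hd : d ≠ 0) :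
    ∃ c : F, c ≠ 0 ∧ (d * c ^ 2 = 1 ∨ d * c ^ 2 = α) := by
  have hα0 : α ≠ 0 := by rintro rfl; exact hα ⟨0, by simp⟩
  by_cases hs : IsSquare d
  · obtain ⟨r, hr⟩ := hs
    have hr0 : r ≠ 0 := by rintro rfl; rw [mul_zero] at hr; exact hd hr
    exact ⟨r⁻¹, inv_ne_zero hr0, Or.inl (by rw [hr]; field_simp)⟩
  · obtain ⟨r, hr⟩ := isSquare_div_of_nonsquare h2 hα hs
    have hr0 : r ≠ 0 := by rintro rfl; rw [mul_zero] at hr; exact div_ne_zero hα0 hd hr
    exact ⟨r, hr0, Or.inr (by rw [pow_two, ← hr, mul_div_cancel₀ _ hd])⟩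

theorem exists_symm_basis (h2 : (2 : F) ≠ 0) {α : F} (hα : ¬IsSquare α) :
    ∀ (n : ℕ) (V : Type _) [AddCommGroup V] [Module F V] [FiniteDimensional F V]
      (B : LinearMap.BilinForm F V), B.IsSymm → B.Nondegenerate → Module.finrank F V = n + 1 →
      ∃ b : Module.Basis (Fin (n + 1)) F V, (∀ i j, i ≠ j → B (b i) (b j) = 0) ∧
        (∀ i, i ≠ Fin.last n → B (b i) (b i) = 1) ∧
        (B (b (Fin.last n)) (b (Fin.last n)) = 1 ∨ B (b (Fin.last n)) (b (Fin.last n)) = α) := by
  intro n
  induction n with
  | zero =>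
    intro V _ _ _ B hS hB hn
    let b0 := Module.finBasisOfFinrankEq F V hn
    have hd : B (b0 0) (b0 0) ≠ 0 := by
      intro h0
      refine b0.ne_zero 0 (hB.1 _ fun y => ?_)
      rw [← b0.sum_repr y, Fin.sum_univ_succ]
      simp [h0]
    obtain ⟨c, hc, hd'⟩ := exists_value_rep h2 hα hd
    refine ⟨b0.unitsSMul fun _ => Units.mk0 c hc, fun i j h => ?_, fun i h => ?_, ?_⟩
    · exact absurd (Subsingleton.elim (α := Fin 1) i j) h
    · exact absurd (Subsingleton.elim (α := Fin 1) i _) h
    · have e : B (b0.unitsSMul (fun _ => Units.mk0 c hc) (Fin.last 0))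
          (b0.unitsSMul (fun _ => Units.mk0 c hc) (Fin.last 0)) = B (b0 0) (b0 0) * c ^ 2 := by
        simp [Module.Basis.unitsSMul_apply, Units.smul_def]
        ring
      rw [e]; exact hd'
  | succ n ih =>
    intro V _ _ _ B hS hB hn
    have hne : ∀ (W : Submodule F V), (∀ x ∈ W, B x x = 0) → ∀ x ∈ W, ∀ y ∈ W, B x y = 0 := by
      intro W hW x hx y hy
      have := hW (x + y) (W.add_mem hx hy)
      simp only [map_add, LinearMap.add_apply, hW x hx, hW y hy, hS.eq y x, zero_add, add_zero] at this
      rw [← two_mul] at this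
      exact (mul_eq_zero.mp this).resolve_left h2
    obtain ⟨u, hu⟩ : ∃ u, B u u ≠ 0 := by
      by_contra hc
      push Not at hc
      haveI : Nontrivial V := Module.nontrivial_of_finrank_eq_succ hn
      obtain ⟨x, hx⟩ := exists_ne (0 : V)
      exact hx (hB.1 x fun y => hne ⊤ (fun z _ => hc z) x trivial y trivial)
    obtain ⟨w, hw0, huw⟩ : ∃ w, B w w ≠ 0 ∧ B u w = 0 := by
      by_contra hc
      push Not at hc
      have h1 := hne (LinearMap.ker (B u)) fun x hx => by
        by_contra h; exact hc x h hx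
      have hW : ∀ x ∈ LinearMap.ker (B u), x = 0 := fun x hx => by
        refine hB.1 x fun y => ?_
        have hy : y - (B u y / B u u) • u ∈ LinearMap.ker (B u) := by
          simp [div_mul_cancel₀ _ hu]
        have h3 := h1 x hx _ hy
        have h4 : B x u = 0 := by rw [hS.eq]; exact hx
        simpa [h4] using h3
      have hdim := finrank_ker_add (B u) (fun a => ⟨(a / B u u) • u, by simp [div_mul_cancel₀ _ hu]⟩)
      rw [(Submodule.eq_bot_iff _).mpr hW, finrank_bot, Module.finrank_self] at hdim
      omega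
    obtain ⟨s, t, hst⟩ := exists_binary h2 hu hw0 1
    set v := s • u + t • w with hv
    have hvv : B v v = 1 := by
      simp only [hv, map_add, map_smul, LinearMap.add_apply, LinearMap.smul_apply, huw, hS.eq w u,
        smul_eq_mul]
      linear_combination hst
    set W : Submodule F V := LinearMap.ker (B v) with hW
    have hdim := finrank_ker_add (B v) (fun a => ⟨a • v, by simp [hvv]⟩)
    rw [← hW, Module.finrank_self] at hdim
    have hperp : ∀ x : W, B (x : V) v = 0 := fun x => by
      rw [hS.eq, show B v (x : V) = 0 from x.2]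
    have hdecomp : ∀ y : V, y - B v y • v ∈ W := fun y => by
      simp [hW, LinearMap.mem_ker, hvv]
    have hBW : (B.restrict W).Nondegenerate := by
      have h1 : ∀ x : W, (∀ y : W, B.restrict W x y = 0) → x = 0 := by
        intro x hx
        refine Subtype.ext (hB.1 x fun y => ?_)
        have := hx ⟨_, hdecomp y⟩
        change B (x : V) (y - B v y • v) = 0 at this
        simpa [hperp] using this
      refine ⟨h1, fun y hy => h1 y fun x => ?_⟩
      change B (y : V) (x : V) = 0
      rw [hS.eq]; exact hy x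
    obtain ⟨b, hb1, hb2, hb3⟩ := ih W (B.restrict W) ⟨fun x y => hS.eq (x : V) (y : V)⟩ hBW (by omega)
    let f : Fin (n + 1 + 1) → V := Fin.cons v fun i => (b i : V)
    have hspan : ⊤ ≤ Submodule.span F (Set.range f) := by
      intro x _
      have h : (⟨_, hdecomp x⟩ : W) ∈ Submodule.span F (Set.range b) := b.mem_span _
      have hle : Submodule.map W.subtype (Submodule.span F (Set.range b)) ≤
          Submodule.span F (Set.range f) := by
        rw [Submodule.map_span, Submodule.span_le]
        rintro _ ⟨_, ⟨i, rfl⟩, rfl⟩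
        exact Submodule.subset_span ⟨i.succ, by simp [f]⟩
      have := add_mem (hle ⟨_, h, rfl⟩)
        (Submodule.smul_mem _ (B v x) (Submodule.subset_span ⟨0, rfl⟩ : f 0 ∈ Submodule.span F (Set.range f)))
      simpa [f] using this
    refine ⟨basisOfTopLeSpanOfCardEqFinrank f hspan (by rw [Fintype.card_fin, hn]), ?_⟩
    rw [coe_basisOfTopLeSpanOfCardEqFinrank, ← Fin.succ_last]
    refine ⟨fun i j hij => ?_, fun i hi => ?_, ?_⟩
    · induction i using Fin.cases with
      | zero =>
        induction j using Fin.cases with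
        | zero => exact absurd rfl hij
        | succ j =>
          have : B v (b j : V) = 0 := (b j).2
          simpa [f] using this
      | succ i =>
        induction j using Fin.cases with
        | zero => simp [f, hperp]
        | succ j =>
          have := hb1 i j fun e => hij (by rw [e])
          simpa [f] using this
    · induction i using Fin.cases with
      | zero => simpa [f] using hvv
      | succ i =>
        have := hb2 i fun e => hi (by rw [e])
        simpa [f] using this
    · simpa [f] using hb3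

theorem exists_singular [CharP F 2] {V : Type*} [AddCommGroup V] [Module F V]
    [FiniteDimensional F V] (Q : QuadraticForm F V) (h3 : 3 ≤ Module.finrank F V) :
    ∃ v : V, v ≠ 0 ∧ Q v = 0 := by
  haveI : Nontrivial V := Module.nontrivial_of_finrank_pos (R := F) (by omega)
  obtain ⟨v, hv⟩ := exists_ne (0 : V)
  by_cases hQv : Q v = 0
  · exact ⟨v, hv, hQv⟩
  set φ : V →ₗ[F] F := polarBilin Q v with hφ
  obtain ⟨w, hw, hwv⟩ : ∃ w, φ w = 0 ∧ w ∉ Submodule.span F {v} := by
    by_contra hc
    push Not at hc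
    have hle : LinearMap.ker φ ≤ Submodule.span F {v} := fun x hx => hc x hx
    have h1 := φ.finrank_range_add_finrank_ker
    have h2 := (Submodule.finrank_mono hle).trans (finrank_span_singleton hv).le
    have h4 := Submodule.finrank_le (LinearMap.range φ)
    rw [Module.finrank_self] at h4
    omega
  obtain ⟨c, hc⟩ : IsSquare (-(Q w / Q v)) :=
    FiniteField.isSquare_of_char_two (ringChar.eq F 2) _
  refine ⟨w + c • v, fun e => hwv ?_, ?_⟩
  · rw [eq_neg_of_add_eq_zero_left e]
    exact Submodule.neg_mem _ (Submodule.smul_mem _ _ (Submodule.mem_span_singleton_self v))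
  · rw [quad_add, quad_smul, polar_smul_right, polar_comm,
      show polar Q v w = 0 from hw, smul_zero, add_zero, ← hc]
    field_simp
    ring

theorem binary_char_two [CharP F 2] {V : Type*} [AddCommGroup V] [Module F V]
    [FiniteDimensional F V]
    (Q : QuadraticForm F V) (h2 : Module.finrank F V = 2) (hQ : (polarBilin Q).Nondegenerate) :
    (∃ v w : V, LinearIndependent F ![v, w] ∧ Q v = 0 ∧ Q w = 0 ∧ polar Q v w = 1) ∨
      ∃ (v w : V) (μ : F), LinearIndependent F ![v, w] ∧ (∀ x : F, x ^ 2 + x + μ ≠ 0) ∧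
        Q v = 1 ∧ Q w = μ ∧ polar Q v w = 1 := by
  have hpvv : ∀ v, polar Q v v = 0 := fun v => by
    rw [polar_self, two_smul, CharTwo.add_self_eq_zero]
  have hex : ∀ v : V, v ≠ 0 → ∃ w, polar Q v w = 1 := by
    intro v hv
    have hn : ∃ y, polar Q v y ≠ 0 := by
      by_contra hc
      push Not at hc
      exact hv (hQ.1 v hc)
    obtain ⟨y, hy⟩ := hn
    exact ⟨(polar Q v y)⁻¹ • y, by rw [polar_smul_right, smul_eq_mul, inv_mul_cancel₀ hy]⟩
  have hli : ∀ v w : V, v ≠ 0 → polar Q v w = 1 → LinearIndependent F ![v, w] := by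
    intro v w hv hvw
    rw [LinearIndependent.pair_iff' hv]
    intro a ha
    rw [← ha, polar_smul_right, hpvv, smul_zero] at hvw
    exact zero_ne_one hvw
  by_cases hiso : ∃ v, v ≠ 0 ∧ Q v = 0
  · obtain ⟨v, hv, hQv⟩ := hiso
    obtain ⟨w, hw⟩ := hex v hv
    left
    have hw' : polar Q v (w + Q w • v) = 1 := by
      rw [polar_add_right, polar_smul_right, hw, hpvv, smul_zero, add_zero]
    refine ⟨v, w + Q w • v, hli v _ hv hw', hQv, ?_, hw'⟩
    rw [quad_add, quad_smul, polar_smul_right, polar_comm, hw, hQv, smul_eq_mul, mul_zero,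
      add_zero, mul_one, CharTwo.add_self_eq_zero]
  · push Not at hiso
    right
    haveI : Nontrivial V := Module.nontrivial_of_finrank_eq_succ h2
    obtain ⟨v0, hv0⟩ := exists_ne (0 : V)
    obtain ⟨c, hc⟩ : IsSquare (Q v0)⁻¹ := FiniteField.isSquare_of_char_two (ringChar.eq F 2) _
    have hQ0 : Q v0 ≠ 0 := hiso v0 hv0
    have hc0 : c ≠ 0 := by rintro rfl; rw [mul_zero] at hc; exact inv_ne_zero hQ0 hc
    have hv : c • v0 ≠ 0 := smul_ne_zero hc0 hv0
    have hQv : Q (c • v0) = 1 := by rw [quad_smul, ← hc, inv_mul_cancel₀ hQ0]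
    obtain ⟨w, hw⟩ := hex _ hv
    refine ⟨c • v0, w, Q w, hli _ w hv hw, fun x hx => ?_, hQv, rfl, hw⟩
    have e : Q (x • (c • v0) + w) = 0 := by
      rw [quad_add, quad_smul, hQv, polar_smul_left, hw, smul_eq_mul]
      linear_combination hx
    have hne : x • (c • v0) + w ≠ 0 := by
      intro e'
      have h := congrArg (fun z => polar Q (c • v0) z) e'
      simp only [polar_add_right, polar_zero_right, polar_smul_right (Q := Q) x, hpvv, hw,
        smul_zero, zero_add] at h
      exact one_ne_zero h
    exact hiso _ hne e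

end CfsgLib.Forms
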