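import Cfsg.Agent.Forms.Witt
import Mathlib.LinearAlgebra.QuadraticForm.Basic
import Mathlib.LinearAlgebra.BilinearForm.Properties

/-!
Witt's lemma for quadratic forms with non-degenerate polar form (any field, any characteristic).
-/

set_option autoImplicit false
set_option linter.style.haveILetI false

namespace CfsgLib.Forms

open QuadraticMap

variable {F V : Type*} [Field F] [AddCommGroup V] [Module F V]

/-- The polar form as a reflexive form. -/
def polarForm (Q : QuadraticForm F V) : RForm F V where
  h u v := polar Q u v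
  σ := RingHom.id F
  ε := 1
  σσ _ := rfl
  εσε := by simp
  add_left u v w := polar_add_left Q u v w
  smul_left c u v := by rw [polar_smul_left, smul_eq_mul]
  swap u v := by simp [polar_comm (⇑Q) v u]
  trace_valued v := ⟨Q v, by simp [polar_self, two_mul]⟩

theorem polarForm_h (Q : QuadraticForm F V) (u v : V) :
    (polarForm Q).h u v = polar Q u v := rfl

theorem polarForm_nondeg {Q : QuadraticForm F V} (hQ : (polarBilin Q).Nondegenerate) :
    (polarForm Q).Nondeg := fun v hv => hQ.2 v hv

theorem quad_add (Q : QuadraticForm F V) (u v : V) : Q (u + v) = Q u + Q v + polar Q u v :=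
  QuadraticMap.map_add Q u v

theorem quad_smul (Q : QuadraticForm F V) (c : F) (v : V) : Q (c • v) = c * c * Q v := by
  rw [QuadraticMap.map_smul, smul_eq_mul]

variable [FiniteDimensional F V]

/-- A linear map preserving `Q`, as an automorphism. -/
noncomputable def quadEquiv {Q : QuadraticForm F V} (hQ : (polarBilin Q).Nondegenerate)
    (T : V →ₗ[F] V) (hT : ∀ v, Q (T v) = Q v) : V ≃ₗ[F] V :=
  (polarForm Q).equivOf (polarForm_nondeg hQ) T fun u v => by
    simp only [polarForm_h, polar, ← map_add, hT]

theorem quadEquiv_apply {Q : QuadraticForm F V} (hQ : (polarBilin Q).Nondegenerate)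
    (T : V →ₗ[F] V) (hT : ∀ v, Q (T v) = Q v) (v : V) : quadEquiv hQ T hT v = T v := rfl

theorem quad_step {Q : QuadraticForm F V} (hQ : (polarBilin Q).Nondegenerate) {H : Submodule F V}
    {x y : V} (hx : x ∉ H) (hy : y ∉ H) (hH : ∀ v ∈ H, polar Q v x = polar Q v y)
    (hxy : Q x = Q y) :
    ∃ g : V ≃ₗ[F] V, (∀ v, Q (g v) = Q v) ∧ (∀ v ∈ H, g v = v) ∧ g x = y := by
  set d := y - x with hd
  have hy' : y = x + d := by rw [hd, add_sub_cancel]
  have hHd : ∀ v ∈ H, polar Q v d = 0 := fun v hv => by
    rw [hd, polar_sub_right, hH v hv, sub_self]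
  have hxd : polar Q x d = -Q d := by
    have := quad_add Q x d
    rw [← hy', hxy] at this
    linear_combination -this
  by_cases hd0 : Q d = 0
  swap
  · have hT : ∀ v, Q (v + (-(Q d)⁻¹ * polar Q v d) • d) = Q v := fun v => by
      rw [quad_add, quad_smul, polar_smul_right, smul_eq_mul]
      field_simp
      ring
    let T : V →ₗ[F] V :=
      { toFun := fun v => v + (-(Q d)⁻¹ * polar Q v d) • d
        map_add' := fun a b => by simp only [polar_add_left, mul_add, add_smul]; abel
        map_smul' := fun r a => by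
          simp only [RingHom.id_apply, polar_smul_left, smul_eq_mul]
          module }
    refine ⟨quadEquiv hQ T hT, hT, fun v hv => ?_, ?_⟩
    · change v + _ = v
      rw [hHd v hv, mul_zero, zero_smul, add_zero]
    · change x + _ = y
      rw [hxd, neg_mul_neg, inv_mul_cancel₀ hd0, one_smul, hy']
  have he : polar Q x d = 0 := by rw [hxd, hd0, neg_zero]
  have hdd : polar Q d d = 0 := by rw [polar_self, hd0, smul_zero]
  by_cases hmem : x ∈ H ⊔ Submodule.span F {d}
  swap
  · obtain ⟨u, huU, hxu⟩ := (polarForm Q).exists_perp_one (polarForm_nondeg hQ) hmem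
    simp only [polarForm_h] at huU hxu
    have hud : polar Q u d = 0 := by
      rw [polar_comm]; exact huU d (Submodule.mem_sup_right (Submodule.mem_span_singleton_self d))
    have hT : ∀ v, Q (v + ((polar Q v u - Q u * polar Q v d) • d + (-polar Q v d) • u)) = Q v := by
      intro v
      simp only [quad_add, quad_smul, polar_add_right, polar_smul_right, polar_smul_left,
        smul_eq_mul, polar_comm (⇑Q) d u, hud, hd0]
      ring
    let T : V →ₗ[F] V :=
      { toFun := fun v => v + ((polar Q v u - Q u * polar Q v d) • d + (-polar Q v d) • u)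
        map_add' := fun a b => by
          simp only [polar_add_left, mul_add, neg_add_rev, sub_smul, add_smul, neg_smul]
          abel
        map_smul' := fun r a => by
          simp only [RingHom.id_apply, polar_smul_left, smul_eq_mul]
          module }
    refine ⟨quadEquiv hQ T hT, hT, fun v hv => ?_, ?_⟩
    · change v + _ = v
      simp only [hHd v hv, huU v (Submodule.mem_sup_left hv), mul_zero, sub_zero, neg_zero,
        zero_smul, add_zero]
    · change x + _ = y
      simp only [he, hxu, mul_zero, sub_zero, neg_zero, one_smul, zero_smul, add_zero]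
      exact hy'.symm
  obtain ⟨z, hz, z', hz', hxz⟩ := Submodule.mem_sup.mp hmem
  obtain ⟨c, rfl⟩ := Submodule.mem_span_singleton.mp hz'
  have hc : c ≠ 0 := by rintro rfl; rw [zero_smul, add_zero] at hxz; exact hx (hxz ▸ hz)
  have hyeq : y = z + (c + 1) • d := by rw [add_smul, one_smul, ← add_assoc, hxz, ← hy']
  have hc1 : c + 1 ≠ 0 := by
    intro e; rw [hyeq, e, zero_smul, add_zero] at hy; exact hy hz
  have hdH : d ∉ H := fun h => hx (hxz ▸ H.add_mem hz (H.smul_mem c h))
  obtain ⟨w0, hw0, hdw0⟩ := (polarForm Q).exists_perp_one (polarForm_nondeg hQ) hdH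
  simp only [polarForm_h] at hw0 hdw0
  obtain ⟨w, hw, hdw, hQw⟩ : ∃ w, (∀ v ∈ H, polar Q v w = 0) ∧ polar Q d w = 1 ∧ Q w = 0 := by
    refine ⟨w0 + (-Q w0) • d, fun v hv => ?_, ?_, ?_⟩
    · rw [polar_add_right, polar_smul_right, hw0 v hv, hHd v hv, smul_zero, add_zero]
    · rw [polar_add_right, polar_smul_right, hdw0, hdd, smul_zero, add_zero]
    · rw [quad_add, quad_smul, polar_smul_right, polar_comm (⇑Q) w0 d, hdw0, hd0, smul_eq_mul]
      ring
  set l := (c + 1) / c with hl
  have hl0 : l ≠ 0 := div_ne_zero hc1 hc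
  have hT : ∀ v, Q (v + (((l - 1) * polar Q v w) • d + ((l⁻¹ - 1) * polar Q v d) • w)) = Q v := by
    intro v
    simp only [quad_add, quad_smul, polar_add_right, polar_smul_right, polar_smul_left, smul_eq_mul,
      hd0, hQw, hdw]
    have h4 : l⁻¹ * l = 1 := inv_mul_cancel₀ hl0
    linear_combination (polar Q v w * polar Q v d) * h4
  let T : V →ₗ[F] V :=
    { toFun := fun v => v + (((l - 1) * polar Q v w) • d + ((l⁻¹ - 1) * polar Q v d) • w)
      map_add' := fun a b' => by simp only [polar_add_left, mul_add, add_smul]; abel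
      map_smul' := fun r a => by
        simp only [RingHom.id_apply, polar_smul_left, smul_eq_mul]
        module }
  refine ⟨quadEquiv hQ T hT, hT, fun v hv => ?_, ?_⟩
  · change v + _ = v
    simp only [hHd v hv, hw v hv, mul_zero, zero_smul, add_zero]
  · change T x = y
    have h1 : T d = l • d := by
      change d + _ = _
      simp only [hdd, hdw, mul_one, mul_zero, zero_smul, add_zero, sub_smul, one_smul,
        add_sub_cancel]
    have h2 : T z = z := by
      change z + _ = z
      simp only [hHd z hz, hw z hz, mul_zero, zero_smul, add_zero]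
    rw [← hxz, map_add, map_smul, h1, h2, smul_smul, hl, mul_div_cancel₀ _ hc, hyeq]

theorem quad_exists_map_family {Q : QuadraticForm F V} (hQ : (polarBilin Q).Nondegenerate) :
    ∀ {k : ℕ} (v w : Fin k → V), LinearIndependent F v → LinearIndependent F w →
    (∀ i, Q (v i) = Q (w i)) → (∀ i j, polar Q (v i) (v j) = polar Q (w i) (w j)) →
    ∃ g : V ≃ₗ[F] V, (∀ u, Q (g u) = Q u) ∧ ∀ i, g (v i) = w i := by
  intro k
  induction k with
  | zero => exact fun v w _ _ _ _ => ⟨LinearEquiv.refl F V, fun _ => rfl, fun i => i.elim0⟩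
  | succ k ih =>
    intro v w hv hw hQvw hvw
    obtain ⟨g, hg, hgv⟩ := ih (v ∘ Fin.castSucc) (w ∘ Fin.castSucc)
      (hv.comp _ (Fin.castSucc_injective k)) (hw.comp _ (Fin.castSucc_injective k))
      (fun i => hQvw _) (fun i j => hvw _ _)
    have hgp : ∀ a b, polar Q (g a) (g b) = polar Q a b := fun a b => by
      simp only [polar, ← map_add, hg]
    have hr : Fin.last k ∉ Set.range (Fin.castSucc : Fin k → Fin (k + 1)) := by
      rintro ⟨i, hi⟩; exact Fin.castSucc_ne_last i hi
    have hw2 : w (Fin.last k) ∉ Submodule.span F (Set.range (w ∘ Fin.castSucc)) := by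
      rw [Set.range_comp]; exact hw.notMem_span_image hr
    have hx2 : g (v (Fin.last k)) ∉ Submodule.span F (Set.range (w ∘ Fin.castSucc)) := by
      rw [show w ∘ Fin.castSucc = (⇑g ∘ v) ∘ Fin.castSucc from funext fun i => (hgv i).symm,
        Set.range_comp]
      exact (hv.map' g.toLinearMap g.ker).notMem_span_image hr
    have hHeq : ∀ u ∈ Submodule.span F (Set.range (w ∘ Fin.castSucc)),
        polar Q u (g (v (Fin.last k))) = polar Q u (w (Fin.last k)) := by
      intro u hu
      induction hu using Submodule.span_induction with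
      | mem u hu =>
        obtain ⟨i, rfl⟩ := hu
        rw [show (w ∘ Fin.castSucc) i = g (v i.castSucc) from (hgv i).symm, hgp, hvw,
          show g (v i.castSucc) = w i.castSucc from hgv i]
      | zero => rw [polar_zero_left, polar_zero_left]
      | add a b _ _ ha hb => rw [polar_add_left, polar_add_left, ha, hb]
      | smul c a _ ha => rw [polar_smul_left, polar_smul_left, ha]
    obtain ⟨g2, hg2, hfix, hmap⟩ := quad_step hQ hx2 hw2 hHeq (by rw [hg, hQvw])
    refine ⟨g.trans g2, fun a => by rw [LinearEquiv.trans_apply, hg2, hg], fun i => ?_⟩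
    induction i using Fin.lastCases with
    | last => exact hmap
    | cast i =>
      rw [LinearEquiv.trans_apply, show g (v i.castSucc) = w i.castSucc from hgv i]
      exact hfix _ (Submodule.subset_span ⟨i, rfl⟩)

/-- Witt's lemma for quadratic forms. -/
theorem quad_witt {Q : QuadraticForm F V} (hQ : (polarBilin Q).Nondegenerate) (X : Submodule F V)
    (φ : X →ₗ[F] V) (hinj : Function.Injective φ) (hφ : ∀ a : X, Q (φ a) = Q (a : V)) :
    ∃ g : V ≃ₗ[F] V, (∀ u, Q (g u) = Q u) ∧ ∀ a : X, g a = φ a := by
  let b := Module.finBasis F X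
  obtain ⟨g, hg, hgb⟩ := quad_exists_map_family hQ (fun i => (b i : V)) (fun i => φ (b i))
    (b.linearIndependent.map' X.subtype X.ker_subtype)
    (b.linearIndependent.map' φ (LinearMap.ker_eq_bot.mpr hinj))
    (fun i => (hφ _).symm)
    (fun i j => by simp only [polar, ← map_add, ← Submodule.coe_add, hφ])
  refine ⟨g, hg, fun a => ?_⟩
  exact LinearMap.congr_fun (b.ext hgb : g.toLinearMap ∘ₗ X.subtype = φ) a

end CfsgLib.Forms
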