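import Cfsg.Agent.Forms.Witt
import Cfsg.Agent.Forms.Quadratic
import Mathlib.LinearAlgebra.SesquilinearForm.Basic
import Mathlib.FieldTheory.Finite.Basic
import Mathlib.LinearAlgebra.FreeModule.Finite.Basic
import Mathlib.LinearAlgebra.Dimension.OrzechProperty

/-!
Alternating, symmetric and Hermitian forms as reflexive forms; standard bases.
-/

set_option autoImplicit false
set_option linter.style.haveILetI false

namespace CfsgLib.Forms

variable {F V : Type*} [Field F] [AddCommGroup V] [Module F V]

/-- An alternating bilinear form as a reflexive form. -/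
def ofAlt (B : LinearMap.BilinForm F V) (hA : B.IsAlt) : RForm F V where
  h u v := B u v
  σ := RingHom.id F
  ε := -1
  σσ _ := rfl
  εσε := by simp
  add_left u v w := by simp
  smul_left c u v := by simp
  swap u v := by rw [← LinearMap.IsAlt.neg hA]; simp
  trace_valued v := ⟨0, by simp [show B v v = 0 from hA v]⟩

/-- A symmetric bilinear form, characteristic not two, as a reflexive form. -/
def ofSymm (B : LinearMap.BilinForm F V) (hS : B.IsSymm) (h2 : (2 : F) ≠ 0) : RForm F V where
  h u v := B u v
  σ := RingHom.id F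
  ε := 1
  σσ _ := rfl
  εσε := by simp
  add_left u v w := by simp
  smul_left c u v := by simp
  swap u v := by rw [RingHom.id_apply, one_mul, hS.eq]
  trace_valued v := ⟨B v v / 2, by rw [RingHom.id_apply, one_mul, ← two_mul, mul_div_cancel₀ _ h2]⟩

theorem exists_add_σ_eq_one {σ : F →+* F} (hσ : σ ≠ RingHom.id F) (hσ2 : ∀ a, σ (σ a) = a) :
    ∃ t : F, t + σ t = 1 := by
  obtain ⟨b, hb⟩ : ∃ b, b + σ b ≠ 0 := by
    by_contra hc
    push Not at hc
    apply hσ
    have h2 : (1 : F) + 1 = 0 := by simpa using hc 1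
    ext a
    have := hc a
    rw [RingHom.id_apply]
    linear_combination this - a * h2
  refine ⟨b / (b + σ b), ?_⟩
  rw [map_div₀, map_add, hσ2, add_comm (σ b) b, ← add_div, div_self hb]

/-- A Hermitian form (semilinear in the first variable) as a reflexive form. -/
def ofHerm {σ : F →+* F} (hσ : σ ≠ RingHom.id F) (hσ2 : ∀ a, σ (σ a) = a)
    (B : V →ₛₗ[σ] V →ₗ[F] F) (hS : B.IsSymm) : RForm F V where
  h u v := B v u
  σ := σ
  ε := 1
  σσ := hσ2
  εσε := by simp
  add_left u v w := by simp
  smul_left c u v := by simp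
  swap u v := by rw [one_mul, hS.eq]
  trace_valued v := by
    obtain ⟨t, ht⟩ := exists_add_σ_eq_one hσ hσ2
    refine ⟨t * B v v, ?_⟩
    rw [one_mul, map_mul, hS.eq, ← add_mul, ht, one_mul]

theorem ofAlt_nondeg {B : LinearMap.BilinForm F V} (hB : B.Nondegenerate) (hA : B.IsAlt) :
    (ofAlt B hA).Nondeg := fun v hv => hB.2 v hv

theorem ofHerm_nondeg {σ : F →+* F} (hσ : σ ≠ RingHom.id F) (hσ2 : ∀ a, σ (σ a) = a)
    {B : V →ₛₗ[σ] V →ₗ[F] F} (hS : B.IsSymm) (hB : B.Nondegenerate) :
    (ofHerm hσ hσ2 B hS).Nondeg := fun v hv => hB.1 v hv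

theorem herm_eq_zero {σ : F →+* F} (hσ : σ ≠ RingHom.id F) (B : V →ₛₗ[σ] V →ₗ[F] F)
    (hS : B.IsSymm) (h0 : ∀ v : V, B v v = 0) : B = 0 := by
  ext x y
  by_contra hxy
  have key : ∀ c : F, c * B x y + σ (c * B x y) = 0 := by
    intro c
    have := h0 (x + c • y)
    simp only [map_add, map_smul, LinearMap.add_apply, LinearMap.map_smulₛₗ, LinearMap.smul_apply,
      h0, smul_eq_mul] at this
    rw [map_mul, hS.eq]
    linear_combination this
  apply hσ
  have hne : B x y ≠ 0 := hxy
  have h2 : (1 : F) + 1 = 0 := by simpa [inv_mul_cancel₀ hne] using key (B x y)⁻¹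
  ext a
  have := key (a * (B x y)⁻¹)
  rw [mul_assoc, inv_mul_cancel₀ hne, mul_one] at this
  rw [RingHom.id_apply]
  linear_combination this - a * h2

/-- The kernel of a family of functionals, counted. -/
theorem finrank_ker_add {W : Type*} [AddCommGroup W] [Module F W] [FiniteDimensional F V]
    [FiniteDimensional F W] (φ : V →ₗ[F] W) (hφ : Function.Surjective φ) :
    Module.finrank F W + Module.finrank F (LinearMap.ker φ) = Module.finrank F V := by
  rw [← φ.finrank_range_add_finrank_ker, LinearMap.range_eq_top.mpr hφ, finrank_top]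

theorem exists_symplectic_basis : ∀ (n : ℕ) (V : Type _) [AddCommGroup V] [Module F V]
    [FiniteDimensional F V] (B : LinearMap.BilinForm F V), B.IsAlt → Module.finrank F V = n →
    ∃ (m k : ℕ) (b : Module.Basis ((Fin m ⊕ Fin m) ⊕ Fin k) F V),
      (∀ i j : Fin m, B (b (Sum.inl (Sum.inl i))) (b (Sum.inl (Sum.inr j))) =
        if i = j then 1 else 0) ∧
      (∀ i j : Fin m, B (b (Sum.inl (Sum.inl i))) (b (Sum.inl (Sum.inl j))) = 0) ∧
      (∀ i j : Fin m, B (b (Sum.inl (Sum.inr i))) (b (Sum.inl (Sum.inr j))) = 0) ∧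
      (∀ (j : Fin k) (v : V), B (b (Sum.inr j)) v = 0) := by
  intro n
  induction n using Nat.strong_induction_on with
  | _ n ih =>
    intro V _ _ _ B hA hn
    by_cases hB0 : ∀ u v, B u v = 0
    · let b := (Module.finBasis F V).reindex (Equiv.emptySum (Fin 0 ⊕ Fin 0) (Fin (Module.finrank F V))).symm
      exact ⟨0, _, b, fun i => i.elim0, fun i => i.elim0, fun i => i.elim0, fun j v => hB0 _ v⟩
    push Not at hB0
    obtain ⟨u, v0, huv0⟩ := hB0
    obtain ⟨v, huv⟩ : ∃ v, B u v = 1 := ⟨(B u v0)⁻¹ • v0, by simp [inv_mul_cancel₀ huv0]⟩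
    have hvu : B v u = -1 := by rw [← huv, LinearMap.IsAlt.neg hA]
    have huu : B u u = 0 := hA u
    have hvv : B v v = 0 := hA v
    set W : Submodule F V := LinearMap.ker ((B u).prod (B v)) with hW
    have hmem : ∀ x, x ∈ W ↔ B u x = 0 ∧ B v x = 0 := fun x => by
      simp [hW, LinearMap.mem_ker, LinearMap.prod_apply]
    have hsurj : Function.Surjective ((B u).prod (B v)) := fun p => ⟨p.1 • v - p.2 • u, by
      simp [LinearMap.prod_apply, huv, hvu, huu, hvv]⟩
    have hdim := finrank_ker_add _ hsurj
    rw [← hW, Module.finrank_prod, Module.finrank_self] at hdim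
    obtain ⟨m, k, b, h1, h2, h3, h4⟩ := ih (Module.finrank F W) (by omega) W (B.restrict W)
      (fun x => hA (x : V)) rfl
    have hcard := Module.finrank_eq_card_basis b
    simp only [Fintype.card_sum, Fintype.card_fin] at hcard
    let f : (Fin (m + 1) ⊕ Fin (m + 1)) ⊕ Fin k → V :=
      Sum.elim (Sum.elim (Fin.cons u fun i => (b (Sum.inl (Sum.inl i)) : V))
        (Fin.cons v fun i => (b (Sum.inl (Sum.inr i)) : V))) fun j => (b (Sum.inr j) : V)
    have hspan : ⊤ ≤ Submodule.span F (Set.range f) := by
      intro x _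
      have hu : u ∈ Submodule.span F (Set.range f) :=
        Submodule.subset_span ⟨Sum.inl (Sum.inl 0), rfl⟩
      have hv : v ∈ Submodule.span F (Set.range f) :=
        Submodule.subset_span ⟨Sum.inl (Sum.inr 0), rfl⟩
      have hWle : W ≤ Submodule.span F (Set.range f) := by
        intro w hw
        have h : (⟨w, hw⟩ : W) ∈ Submodule.span F (Set.range b) := b.mem_span _
        have hle : Submodule.map W.subtype (Submodule.span F (Set.range b)) ≤
            Submodule.span F (Set.range f) := by
          rw [Submodule.map_span, Submodule.span_le]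
          rintro _ ⟨_, ⟨i, rfl⟩, rfl⟩
          rcases i with (i | i) | i
          · exact Submodule.subset_span ⟨Sum.inl (Sum.inl i.succ), by simp [f]⟩
          · exact Submodule.subset_span ⟨Sum.inl (Sum.inr i.succ), by simp [f]⟩
          · exact Submodule.subset_span ⟨Sum.inr i, by simp [f]⟩
        exact hle ⟨_, h, rfl⟩
      have hx : x - B x v • u + B x u • v ∈ W := by
        rw [hmem]
        constructor <;> simp [huv, hvu, huu, hvv, ← LinearMap.IsAlt.neg hA u x, ← LinearMap.IsAlt.neg hA v x]
      have := add_mem (hWle hx) (sub_mem (Submodule.smul_mem _ (B x v) hu)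
        (Submodule.smul_mem _ (B x u) hv))
      convert this using 1
      abel
    have hcardf : Fintype.card ((Fin (m + 1) ⊕ Fin (m + 1)) ⊕ Fin k) = Module.finrank F V := by
      simp only [Fintype.card_sum, Fintype.card_fin]; omega
    refine ⟨m + 1, k, basisOfTopLeSpanOfCardEqFinrank f hspan hcardf, ?_⟩
    rw [coe_basisOfTopLeSpanOfCardEqFinrank]
    have hb : ∀ i, B u (b i : V) = 0 ∧ B v (b i : V) = 0 := fun i => (hmem _).mp (b i).2
    have hb' : ∀ i, B (b i : V) u = 0 ∧ B (b i : V) v = 0 := fun i => by
      obtain ⟨e1, e2⟩ := hb i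
      exact ⟨by rw [← LinearMap.IsAlt.neg hA, e1, neg_zero], by rw [← LinearMap.IsAlt.neg hA, e2, neg_zero]⟩
    simp only [LinearMap.BilinForm.restrict_apply, LinearMap.domRestrict_apply] at h1 h2 h3 h4
    refine ⟨fun i j => ?_, fun i j => ?_, fun i j => ?_, fun j x => ?_⟩
    · induction i using Fin.cases with
      | zero =>
        induction j using Fin.cases with
        | zero => simp [f, huv]
        | succ j => simp [f, (hb _).1, eq_comm]
      | succ i =>
        induction j using Fin.cases with
        | zero => simp [f, (hb' _).2]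
        | succ j => simp [f, h1]
    · induction i using Fin.cases with
      | zero =>
        induction j using Fin.cases with
        | zero => simp [f, huu]
        | succ j => simp [f, (hb _).1]
      | succ i =>
        induction j using Fin.cases with
        | zero => simp [f, (hb' _).1]
        | succ j => simp [f, h2]
    · induction i using Fin.cases with
      | zero =>
        induction j using Fin.cases with
        | zero => simp [f, hvv]
        | succ j => simp [f, (hb _).2]
      | succ i =>
        induction j using Fin.cases with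
        | zero => simp [f, (hb' _).2]
        | succ j => simp [f, h3]
    · have hx : x - B x v • u + B x u • v ∈ W := by
        rw [hmem]
        constructor <;> simp [huv, hvu, huu, hvv, ← LinearMap.IsAlt.neg hA u x, ← LinearMap.IsAlt.neg hA v x]
      have := h4 j ⟨_, hx⟩
      simp only [map_add, map_sub, map_smul, (hb' _).1, (hb' _).2, smul_zero, sub_zero,
        add_zero] at this
      simpa [f] using this

theorem exists_orthonormal_herm [Finite F] {σ : F →+* F} (hσ : σ ≠ RingHom.id F)
    (hσ2 : ∀ a, σ (σ a) = a) (hnorm : ∀ a : F, σ a = a → a ≠ 0 → ∃ c : F, c * σ c = a) :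
    ∀ (n : ℕ) (V : Type _) [AddCommGroup V] [Module F V] [FiniteDimensional F V]
      (B : V →ₛₗ[σ] V →ₗ[F] F), B.IsSymm → B.Nondegenerate → Module.finrank F V = n →
      ∃ b : Module.Basis (Fin n) F V, ∀ i j, B (b i) (b j) = if i = j then 1 else 0 := by
  intro n
  induction n with
  | zero => exact fun V _ _ _ B _ _ hn => ⟨Module.finBasisOfFinrankEq F V hn, fun i => i.elim0⟩
  | succ n ih =>
    intro V _ _ _ B hS hB hn
    obtain ⟨v0, hv0⟩ : ∃ v, B v v ≠ 0 := by
      by_contra hc
      push Not at hc
      have hz := herm_eq_zero hσ B hS hc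
      haveI : Nontrivial V := Module.nontrivial_of_finrank_eq_succ hn
      obtain ⟨x, hx⟩ := exists_ne (0 : V)
      exact hx (hB.1 x fun y => by simp [hz])
    obtain ⟨c, hc⟩ := hnorm (B v0 v0)⁻¹ (by rw [map_inv₀, hS.eq]) (inv_ne_zero hv0)
    set v := c • v0 with hv
    have hvv : B v v = 1 := by
      simp only [hv, LinearMap.map_smulₛₗ, LinearMap.smul_apply, map_smul, smul_eq_mul]
      rw [← mul_assoc, hc, inv_mul_cancel₀ hv0]
    have hvv' : B v v ≠ 0 := by rw [hvv]; exact one_ne_zero
    set W : Submodule F V := LinearMap.ker (B v) with hW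
    have hdim := finrank_ker_add (B v) (fun a => ⟨a • v, by simp [hvv]⟩)
    rw [← hW, Module.finrank_self] at hdim
    let BW : W →ₛₗ[σ] W →ₗ[F] F :=
      { toFun := fun x => (B x).domRestrict W
        map_add' := fun x y => by ext z; simp
        map_smul' := fun r x => by ext z; simp [LinearMap.map_smulₛₗ] }
    have hperp : ∀ w : W, B (w : V) v = 0 := fun w => by
      rw [← hS.eq, show B v (w : V) = 0 from w.2, map_zero]
    have hdecomp : ∀ y : V, y - B v y • v ∈ W := fun y => by
      simp [hW, LinearMap.mem_ker, hvv]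
    have hBW : BW.Nondegenerate := by
      have h1 : ∀ x : W, (∀ y : W, BW x y = 0) → x = 0 := by
        intro x hx
        refine Subtype.ext (hB.1 x fun y => ?_)
        have := hx ⟨_, hdecomp y⟩
        change B (x : V) (y - B v y • v) = 0 at this
        simpa [hperp] using this
      refine ⟨h1, fun y hy => h1 y fun x => ?_⟩
      change B (y : V) (x : V) = 0
      rw [← hS.eq, show B (x : V) (y : V) = 0 from hy x, map_zero]
    obtain ⟨b, hb⟩ := ih W BW ⟨fun x y => hS.eq (x : V) (y : V)⟩ hBW (by omega)
    let f : Fin (n + 1) → V := Fin.cons v fun i => (b i : V)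
    have hspan : ⊤ ≤ Submodule.span F (Set.range f) := by
      intro x _
      have h : (⟨_, hdecomp x⟩ : W) ∈ Submodule.span F (Set.range b) := b.mem_span _
      have hle : Submodule.map W.subtype (Submodule.span F (Set.range b)) ≤
          Submodule.span F (Set.range f) := by
        rw [Submodule.map_span, Submodule.span_le]
        rintro _ ⟨_, ⟨i, rfl⟩, rfl⟩
        exact Submodule.subset_span ⟨i.succ, by simp [f]⟩
      have := add_mem (hle ⟨_, h, rfl⟩)
        (Submodule.smul_mem _ (B v x) (Submodule.subset_span ⟨0, rfl⟩ : f 0 ∈ Submodule.span F (Set.range f)))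
      simpa [f] using this
    refine ⟨basisOfTopLeSpanOfCardEqFinrank f hspan (by rw [Fintype.card_fin, hn]), ?_⟩
    rw [coe_basisOfTopLeSpanOfCardEqFinrank]
    intro i j
    induction i using Fin.cases with
    | zero =>
      induction j using Fin.cases with
      | zero => simp [f, hvv]
      | succ j =>
        have : B v (b j : V) = 0 := (b j).2
        simp [f, this, eq_comm]
    | succ i =>
      induction j using Fin.cases with
      | zero => simp [f, hperp]
      | succ j =>
        have := hb i j
        change B (b i : V) (b j : V) = _ at this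
        simp [f, this]

theorem finite_norm_surjective [Finite F] {σ : F →+* F} (hσ : σ ≠ RingHom.id F)
    (hσ2 : ∀ a, σ (σ a) = a) (a : F) (ha : σ a = a) (ha0 : a ≠ 0) :
    ∃ c : F, c * σ c = a := by
  haveI := Fintype.ofFinite F
  -- the norm and the map `u ↦ σ u / u` on the cyclic group `Fˣ`
  let τ : Fˣ →* Fˣ := Units.map (σ : F →* F)
  let N : Fˣ →* Fˣ := MonoidHom.id Fˣ * τ
  let D : Fˣ →* Fˣ := τ * (MonoidHom.id Fˣ)⁻¹
  have hττ : ∀ u, τ (τ u) = u := fun u => Units.ext (hσ2 _)
  have hrange : N.range ≤ D.ker := by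
    rintro _ ⟨u, rfl⟩
    simp [N, D, MonoidHom.mem_ker, hττ, mul_comm u]
  have h90 : N.ker ≤ D.range := by
    intro u hu
    have hu' : (u : F) * σ u = 1 := by
      simpa [N, τ, MonoidHom.mem_ker, Units.ext_iff] using hu
    obtain ⟨b, hb⟩ : ∃ b, σ b ≠ b := by
      by_contra hc
      push Not at hc
      exact hσ (RingHom.ext hc)
    obtain ⟨w, hw0, hw⟩ : ∃ w : F, w ≠ 0 ∧ σ w = u * w := by
      by_cases h1 : 1 + σ u = 0
      · refine ⟨b - σ b, sub_ne_zero.mpr (Ne.symm hb), ?_⟩
        have : (u : F) = -1 := by linear_combination (u : F) * h1 - hu'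
        rw [map_sub, hσ2, this]; ring
      · exact ⟨1 + σ u, h1, by rw [map_add, map_one, hσ2]; linear_combination -hu'⟩
    exact ⟨Units.mk0 w hw0, Units.ext (by simp [D, τ, hw, hw0])⟩
  have e1 : ∀ f : Fˣ →* Fˣ, Nat.card f.ker * Nat.card f.range = Nat.card Fˣ := fun f => by
    rw [← Subgroup.index_ker, Subgroup.card_mul_index]
  have hN := e1 N
  have hD := e1 D
  have hle := Subgroup.card_le_of_le h90
  have heq : N.range = D.ker := by
    refine Subgroup.eq_of_le_of_card_ge hrange (Nat.le_of_mul_le_mul_left ?_ (Nat.card_pos : 0 < Nat.card N.ker))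
    rw [hN, ← hD, mul_comm]
    exact Nat.mul_le_mul_left _ hle |>.trans_eq (mul_comm _ _) |>.trans (le_of_eq (mul_comm _ _))
  have hmem : Units.mk0 a ha0 ∈ N.range := by
    rw [heq, MonoidHom.mem_ker]
    exact Units.ext (by simp [D, τ, ha, ha0])
  obtain ⟨c, hc⟩ := hmem
  exact ⟨c, by simpa [N, τ, Units.ext_iff] using hc⟩

end CfsgLib.Forms
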