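import Mathlib.FieldTheory.Finite.Basic
import Mathlib.Algebra.CharP.Lemmas
import Mathlib.GroupTheory.SpecificGroups.Cyclic
import Mathlib.RingTheory.IntegralDomain
import Mathlib.Data.Nat.Prime.Basic

/-!
A finite field with `q ^ 2` elements: the involution `x ↦ x ^ q` and the norm `x ↦ x ^ (q + 1)`.
-/

set_option autoImplicit false
set_option linter.style.haveILetI false

namespace CfsgLib.Forms

variable {F : Type*} [Field F] [Finite F] {q : ℕ} (hF : Nat.card F = q ^ 2)
include hF

theorem two_le_q : 2 ≤ q := by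
  by_contra h
  have h1 : 1 < Nat.card F := Finite.one_lt_card
  rw [hF] at h1
  interval_cases q <;> simp at h1

theorem exists_charP_pow : ∃ (p k : ℕ), CharP F p ∧ p.Prime ∧ q = p ^ k := by
  haveI := Fintype.ofFinite F
  obtain ⟨p, hp⟩ := CharP.exists F
  obtain ⟨n, hpp, hn⟩ := FiniteField.card F p
  have hd : q ∣ p ^ (n : ℕ) := by
    rw [← hn, ← Nat.card_eq_fintype_card, hF]; exact dvd_pow_self q two_ne_zero
  obtain ⟨k, -, hk⟩ := (Nat.dvd_prime_pow hpp).mp hd
  exact ⟨p, k, hp, hpp, hk⟩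

theorem pow_q_q (a : F) : (a ^ q) ^ q = a := by
  haveI := Fintype.ofFinite F
  rw [← pow_mul, ← pow_two, ← hF, Nat.card_eq_fintype_card, FiniteField.pow_card]

theorem add_pow_q (a b : F) : (a + b) ^ q = a ^ q + b ^ q := by
  obtain ⟨p, k, hp, hpp, rfl⟩ := exists_charP_pow hF
  haveI := hp
  haveI := Fact.mk hpp
  exact add_pow_char_pow a b p k

/-- The field automorphism `x ↦ x ^ q`. -/
def frobQ : F →+* F where
  toFun x := x ^ q
  map_one' := one_pow q
  map_mul' a b := mul_pow a b q
  map_zero' := zero_pow (by have := two_le_q hF; omega)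
  map_add' a b := add_pow_q hF a b

theorem frobQ_apply (a : F) : frobQ hF a = a ^ q := rfl

theorem frobQ_invol (a : F) : frobQ hF (frobQ hF a) = a := pow_q_q hF a

theorem card_units_eq : Nat.card Fˣ = (q + 1) * (q - 1) := by
  rw [Nat.card_units, hF, show q ^ 2 - 1 = (q + 1) * (q - 1) by rw [← Nat.sq_sub_sq, one_pow]]

theorem frobQ_ne_id : frobQ hF ≠ RingHom.id F := by
  intro e
  obtain ⟨g, hg⟩ := IsCyclic.exists_generator (α := Fˣ)
  have h1 : g ^ (q - 1) = 1 := by
    have h2 : g ^ q = g := Units.ext (by simpa [frobQ_apply] using RingHom.congr_fun e (g : F))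
    have := two_le_q hF
    apply mul_left_cancel (a := g)
    rw [mul_one, ← pow_succ', Nat.sub_add_cancel (by omega), h2]
  have h3 : orderOf g ∣ q - 1 := orderOf_dvd_of_pow_eq_one h1
  rw [orderOf_eq_card_of_forall_mem_zpowers hg, card_units_eq hF] at h3
  have := two_le_q hF
  have h4 := Nat.le_of_dvd (by omega) h3
  have : 3 * (q - 1) ≤ (q + 1) * (q - 1) := Nat.mul_le_mul_right _ (by omega)
  omega

theorem norm_range :
    (powMonoidHom (q + 1) : Fˣ →* Fˣ).range = (powMonoidHom (q - 1) : Fˣ →* Fˣ).ker := by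
  refine Subgroup.eq_of_le_of_card_ge ?_ ?_
  · rintro _ ⟨u, rfl⟩
    rw [MonoidHom.mem_ker, powMonoidHom_apply, powMonoidHom_apply, ← pow_mul, ← card_units_eq hF,
      pow_card_eq_one']
  · rw [IsCyclic.card_powMonoidHom_ker, IsCyclic.card_powMonoidHom_range, card_units_eq hF,
      Nat.gcd_mul_left_left, Nat.gcd_mul_right_left, Nat.mul_div_cancel_left _ (by omega)]

theorem card_norm_fiber {μ : F} (hμ : μ ≠ 0) (hμq : μ ^ q = μ) :
    Nat.card {x : F // x ^ (q + 1) = μ} = q + 1 := by
  set f : Fˣ →* Fˣ := powMonoidHom (q + 1) with hf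
  have hm : Units.mk0 μ hμ ∈ f.range := by
    rw [hf, norm_range hF, MonoidHom.mem_ker, powMonoidHom_apply]
    refine Units.ext ?_
    have := two_le_q hF
    apply mul_left_cancel₀ hμ
    rw [Units.val_pow_eq_pow_val, Units.val_mk0, Units.val_one, mul_one, ← pow_succ',
      Nat.sub_add_cancel (by omega), hμq]
  obtain ⟨u, hu⟩ := hm
  have hker : Nat.card f.ker = q + 1 := by
    rw [hf, IsCyclic.card_powMonoidHom_ker, card_units_eq hF, Nat.gcd_mul_right_left]
  have hu' : (u : F) ^ (q + 1) = μ := by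
    simpa [hf, Units.ext_iff] using hu
  refine Eq.trans (Nat.card_congr (β := f.ker)
    { toFun := fun x => ⟨u⁻¹ * Units.mk0 x.1 (fun e => hμ (by
          rw [← x.2, e, zero_pow (Nat.succ_ne_zero q)])), by
        rw [MonoidHom.mem_ker, hf, powMonoidHom_apply, mul_pow, inv_pow, inv_mul_eq_one]
        exact Units.ext (by simp [hu', x.2])⟩
      invFun := fun k => ⟨((u * k.1 : Fˣ) : F), by
        have : k.1 ^ (q + 1) = 1 := MonoidHom.mem_ker.mp k.2
        rw [← Units.val_pow_eq_pow_val, mul_pow, this, mul_one, Units.val_pow_eq_pow_val, hu']⟩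
      left_inv := fun x => Subtype.ext (by simp)
      right_inv := fun k => Subtype.ext (Units.ext (by simp)) }) hker

end CfsgLib.Forms
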