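import Cfsg.Agent.Forms.Basic
import Mathlib.LinearAlgebra.Basis.VectorSpace
import Mathlib.Tactic.LinearCombination
import Mathlib.Tactic.Module

/-!
Witt's lemma for trace-valued reflexive forms, over any field.
-/

set_option autoImplicit false
set_option linter.style.haveILetI false

namespace CfsgLib.Forms.RForm

variable {F V : Type*} [Field F] [AddCommGroup V] [Module F V] [FiniteDimensional F V]
variable (Φ : RForm F V)

theorem step (hΦ : Φ.Nondeg) {H : Submodule F V} {x y : V} (hx : x ∉ H) (hy : y ∉ H)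
    (hH : ∀ v ∈ H, Φ.h v x = Φ.h v y) (hxy : Φ.h x x = Φ.h y y) :
    ∃ g : V ≃ₗ[F] V, Φ.Preserves g ∧ (∀ v ∈ H, g v = v) ∧ g x = y := by
  set d := y - x with hd
  have hHd : ∀ v ∈ H, Φ.h v d = 0 := fun v hv => by rw [hd, Φ.sub_right, hH v hv, sub_self]
  have hswd : ∀ w, Φ.σ (Φ.h w d) = Φ.ε⁻¹ * Φ.h d w := fun w => Φ.σ_h w d
  by_cases he : Φ.h x d = 0
  swap
  · set c := (Φ.h x d)⁻¹ with hc
    have hdd : Φ.h d d = -(Φ.h x d + Φ.ε * Φ.σ (Φ.h x d)) := by
      have e1 : Φ.h x d = Φ.h x y - Φ.h y y := by rw [hd, Φ.sub_right, hxy]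
      rw [← Φ.swap x d, e1, hd, Φ.sub_right, Φ.sub_left, Φ.sub_left, hxy]
      ring
    have hT : ∀ v w, Φ.h (v + (c * Φ.h v d) • d) (w + (c * Φ.h w d) • d) = Φ.h v w := by
      intro v w
      have h1 : Φ.σ c * Φ.σ (Φ.h x d) = 1 := by rw [← map_mul, hc, inv_mul_cancel₀ he, map_one]
      have h2 : c * Φ.h x d = 1 := inv_mul_cancel₀ he
      have h3 : Φ.ε⁻¹ * Φ.ε = 1 := inv_mul_cancel₀ Φ.ε_ne_zero
      clear_value c
      clear hc
      generalize Φ.h x d = E at hdd h1 h2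
      simp only [Φ.add_left, Φ.add_right, Φ.smul_left, Φ.smul_right, map_mul, hswd, hdd]
      linear_combination
        (-(Φ.σ c) * Φ.ε⁻¹ * Φ.h v d * Φ.h d w) * h2 +
        (-c * Φ.h v d * Φ.h d w * (Φ.ε⁻¹ * Φ.ε)) * h1 +
        (-c * Φ.h v d * Φ.h d w) * h3
    let T : V →ₗ[F] V :=
      { toFun := fun v => v + (c * Φ.h v d) • d
        map_add' := fun a b => by rw [Φ.add_left, mul_add, add_smul]; abel
        map_smul' := fun r a => by
          simp only [RingHom.id_apply, Φ.smul_left, smul_add, smul_smul]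
          congr 2; ring }
    refine ⟨Φ.equivOf hΦ T hT, Φ.equivOf_preserves hΦ T hT, fun v hv => ?_, ?_⟩
    · change v + (c * Φ.h v d) • d = v
      rw [hHd v hv, mul_zero, zero_smul, add_zero]
    · change x + (c * Φ.h x d) • d = y
      rw [hc, inv_mul_cancel₀ he, one_smul, hd, add_sub_cancel]
  have hdx : Φ.h d x = 0 := Φ.eq_zero_comm.mp he
  have hdd : Φ.h d d = 0 := by
    have h1 : Φ.h d d = Φ.h y d - Φ.h x d := by conv_lhs => rw [hd, Φ.sub_left]
    have h2 : Φ.h d y = 0 := by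
      have e1 : Φ.h x y = Φ.h x x := by
        have := he; rw [hd, Φ.sub_right, sub_eq_zero] at this; exact this
      have e2 : Φ.h y x = Φ.h x x := by
        have := hdx; rw [hd, Φ.sub_left, sub_eq_zero] at this; exact this
      rw [hd, Φ.sub_left, e1, hxy, sub_self]
    rw [h1, Φ.eq_zero_comm.mp h2, he, sub_zero]
  by_cases hmem : x ∈ H ⊔ Submodule.span F {d}
  swap
  · obtain ⟨u, huU, hxu⟩ := Φ.exists_perp_one hΦ hmem
    have hdu : Φ.h d u = 0 :=
      huU d (Submodule.mem_sup_right (Submodule.mem_span_singleton_self d))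
    have hud : Φ.h u d = 0 := Φ.eq_zero_comm.mp hdu
    obtain ⟨t, ht⟩ := Φ.trace_valued u
    have hswu : ∀ w, Φ.σ (Φ.h w u) = Φ.ε⁻¹ * Φ.h u w := fun w => Φ.σ_h w u
    have hT : ∀ v w, Φ.h (v + (Φ.h v u • d + (-Φ.ε⁻¹ * Φ.h v d) • u + (-Φ.σ t * Φ.h v d) • d))
        (w + (Φ.h w u • d + (-Φ.ε⁻¹ * Φ.h w d) • u + (-Φ.σ t * Φ.h w d) • d)) = Φ.h v w := by
      intro v w
      simp only [Φ.add_left, Φ.add_right, Φ.smul_left, Φ.smul_right, map_mul, map_neg, map_inv₀,
        hswd, hswu, Φ.σσ, Φ.σ_ε, inv_inv, hdd, hdu, hud, ht]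
      have h3 : Φ.ε⁻¹ * Φ.ε = 1 := inv_mul_cancel₀ Φ.ε_ne_zero
      linear_combination
        (-(Φ.h v u) * Φ.h d w + Φ.h v d * Φ.h d w * Φ.ε⁻¹ * t +
          Φ.h v d * Φ.h d w * Φ.σ t * (Φ.ε⁻¹ * Φ.ε + 1)) * h3
    let T : V →ₗ[F] V :=
      { toFun := fun v =>
          v + (Φ.h v u • d + (-Φ.ε⁻¹ * Φ.h v d) • u + (-Φ.σ t * Φ.h v d) • d)
        map_add' := fun a b => by simp only [Φ.add_left, mul_add, add_smul]; abel
        map_smul' := fun r a => by
          simp only [RingHom.id_apply, Φ.smul_left]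
          module }
    refine ⟨Φ.equivOf hΦ T hT, Φ.equivOf_preserves hΦ T hT, fun v hv => ?_, ?_⟩
    · change v + _ = v
      simp only [hHd v hv, huU v (Submodule.mem_sup_left hv), mul_zero, zero_smul, add_zero]
    · change x + _ = y
      simp only [he, hxu, mul_zero, zero_smul, add_zero, one_smul]
      rw [hd, add_sub_cancel]
  obtain ⟨z, hz, z', hz', hxz⟩ := Submodule.mem_sup.mp hmem
  obtain ⟨c, rfl⟩ := Submodule.mem_span_singleton.mp hz'
  have hc : c ≠ 0 := by rintro rfl; rw [zero_smul, add_zero] at hxz; exact hx (hxz ▸ hz)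
  have hyeq : y = z + (c + 1) • d := by rw [add_smul, one_smul, ← add_assoc, hxz, hd, add_sub_cancel]
  have hc1 : c + 1 ≠ 0 := by
    intro e; rw [hyeq, e, zero_smul, add_zero] at hy; exact hy hz
  have hdH : d ∉ H := fun h => hx (hxz ▸ H.add_mem hz (H.smul_mem c h))
  obtain ⟨w0, hw0, hdw0⟩ := Φ.exists_perp_one hΦ hdH
  obtain ⟨t, ht⟩ := Φ.trace_valued w0
  have hw0d : Φ.h w0 d = Φ.ε := by rw [Φ.swap, hdw0, map_one, mul_one]
  obtain ⟨w, hw, hdw, hwd, hww⟩ : ∃ w, (∀ v ∈ H, Φ.h v w = 0) ∧ Φ.h d w = 1 ∧ Φ.h w d = Φ.ε ∧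
      Φ.h w w = 0 := by
    refine ⟨w0 - t • d, fun v hv => ?_, ?_, ?_, ?_⟩
    · rw [Φ.sub_right, Φ.smul_right, hw0 v hv, hHd v hv, mul_zero, sub_zero]
    · rw [Φ.sub_right, Φ.smul_right, hdw0, hdd, mul_zero, sub_zero]
    · rw [Φ.sub_left, Φ.smul_left, hw0d, hdd, mul_zero, sub_zero]
    · rw [Φ.sub_left, Φ.smul_left, Φ.sub_right, Φ.sub_right, Φ.smul_right, Φ.smul_right, hdw0, hdd,
        hw0d, ht]
      ring
  set l := (c + 1) / c with hl
  have hl0 : l ≠ 0 := div_ne_zero hc1 hc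
  set b := ((Φ.σ l)⁻¹ - 1) / Φ.ε with hb
  have hσb : Φ.σ b = (l⁻¹ - 1) * Φ.ε := by
    rw [hb, map_div₀, map_sub, map_one, map_inv₀, Φ.σσ, Φ.σ_ε, div_inv_eq_mul]
  have hsww : ∀ v, Φ.σ (Φ.h v w) = Φ.ε⁻¹ * Φ.h w v := fun v => Φ.σ_h v w
  have hT : ∀ v v', Φ.h (v + (((l - 1) * Φ.h v w) • d + (b * Φ.h v d) • w))
      (v' + (((l - 1) * Φ.h v' w) • d + (b * Φ.h v' d) • w)) = Φ.h v v' := by
    intro v v'
    simp only [Φ.add_left, Φ.add_right, Φ.smul_left, Φ.smul_right, map_mul, hswd, hsww, hσb,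
      hdd, hdw, hwd, hww, map_sub, map_one]
    have h3 : Φ.ε⁻¹ * Φ.ε = 1 := inv_mul_cancel₀ Φ.ε_ne_zero
    have h4 : l⁻¹ * l = 1 := inv_mul_cancel₀ hl0
    have h5 : (Φ.σ l)⁻¹ * Φ.σ l = 1 :=
      inv_mul_cancel₀ fun e => hl0 (Φ.σ_injective (e.trans (map_zero _).symm))
    rw [hb, div_eq_mul_inv]
    linear_combination
      ((l⁻¹ - 1) * l * Φ.h v w * Φ.h d v' +
        ((Φ.σ l)⁻¹ - 1) * (Φ.σ l - 1) * Φ.ε⁻¹ * Φ.h v d * Φ.h w v') * h3 +
      (Φ.h v w * Φ.h d v') * h4 + (Φ.ε⁻¹ * Φ.h v d * Φ.h w v') * h5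
  let T : V →ₗ[F] V :=
    { toFun := fun v => v + (((l - 1) * Φ.h v w) • d + (b * Φ.h v d) • w)
      map_add' := fun a b' => by simp only [Φ.add_left, mul_add, add_smul]; abel
      map_smul' := fun r a => by
        simp only [RingHom.id_apply, Φ.smul_left]
        module }
  refine ⟨Φ.equivOf hΦ T hT, Φ.equivOf_preserves hΦ T hT, fun v hv => ?_, ?_⟩
  · change v + _ = v
    simp only [hHd v hv, hw v hv, mul_zero, zero_smul, add_zero]
  · change T x = y
    have h1 : T d = l • d := by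
      change d + _ = _
      simp only [hdd, hdw, mul_one, mul_zero, zero_smul, add_zero, sub_smul, one_smul,
        add_sub_cancel]
    have h2 : T z = z := by
      change z + _ = z
      simp only [hHd z hz, hw z hz, mul_zero, zero_smul, add_zero]
    rw [← hxz, map_add, map_smul, h1, h2, smul_smul, hl, mul_div_cancel₀ _ hc, hyeq]

theorem exists_map_family (hΦ : Φ.Nondeg) : ∀ {k : ℕ} (v w : Fin k → V),
    LinearIndependent F v → LinearIndependent F w →
    (∀ i j, Φ.h (v i) (v j) = Φ.h (w i) (w j)) →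
    ∃ g : V ≃ₗ[F] V, Φ.Preserves g ∧ ∀ i, g (v i) = w i := by
  intro k
  induction k with
  | zero => exact fun v w _ _ _ => ⟨LinearEquiv.refl F V, fun _ _ => rfl, fun i => i.elim0⟩
  | succ k ih =>
    intro v w hv hw hvw
    obtain ⟨g, hg, hgv⟩ := ih (v ∘ Fin.castSucc) (w ∘ Fin.castSucc)
      (hv.comp _ (Fin.castSucc_injective k)) (hw.comp _ (Fin.castSucc_injective k))
      (fun i j => hvw _ _)
    have hr : Fin.last k ∉ Set.range (Fin.castSucc : Fin k → Fin (k + 1)) := by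
      rintro ⟨i, hi⟩; exact Fin.castSucc_ne_last i hi
    have hw2 : w (Fin.last k) ∉ Submodule.span F (Set.range (w ∘ Fin.castSucc)) := by
      rw [Set.range_comp]; exact hw.notMem_span_image hr
    have hx2 : g (v (Fin.last k)) ∉ Submodule.span F (Set.range (w ∘ Fin.castSucc)) := by
      rw [show w ∘ Fin.castSucc = (⇑g ∘ v) ∘ Fin.castSucc from funext fun i => (hgv i).symm,
        Set.range_comp]
      exact (hv.map' g.toLinearMap g.ker).notMem_span_image hr
    have hHeq : ∀ u ∈ Submodule.span F (Set.range (w ∘ Fin.castSucc)),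
        Φ.h u (g (v (Fin.last k))) = Φ.h u (w (Fin.last k)) := by
      intro u hu
      induction hu using Submodule.span_induction with
      | mem u hu =>
        obtain ⟨i, rfl⟩ := hu
        rw [show (w ∘ Fin.castSucc) i = g (v i.castSucc) from (hgv i).symm, hg, hvw,
          show g (v i.castSucc) = w i.castSucc from hgv i]
      | zero => rw [Φ.zero_left, Φ.zero_left]
      | add a b _ _ ha hb => rw [Φ.add_left, Φ.add_left, ha, hb]
      | smul c a _ ha => rw [Φ.smul_left, Φ.smul_left, ha]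
    obtain ⟨g2, hg2, hfix, hmap⟩ := Φ.step hΦ hx2 hw2 hHeq (by rw [hg, hvw])
    refine ⟨g.trans g2, fun a b => by rw [LinearEquiv.trans_apply, LinearEquiv.trans_apply, hg2, hg],
      fun i => ?_⟩
    induction i using Fin.lastCases with
    | last => exact hmap
    | cast i =>
      rw [LinearEquiv.trans_apply, show g (v i.castSucc) = w i.castSucc from hgv i]
      exact hfix _ (Submodule.subset_span ⟨i, rfl⟩)

/-- Witt's lemma. -/
theorem witt (hΦ : Φ.Nondeg) (X : Submodule F V) (φ : X →ₗ[F] V) (hinj : Function.Injective φ)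
    (hφ : ∀ a b : X, Φ.h (φ a) (φ b) = Φ.h a b) :
    ∃ g : V ≃ₗ[F] V, Φ.Preserves g ∧ ∀ a : X, g a = φ a := by
  let b := Module.finBasis F X
  obtain ⟨g, hg, hgb⟩ := Φ.exists_map_family hΦ (fun i => (b i : V)) (fun i => φ (b i))
    (b.linearIndependent.map' X.subtype X.ker_subtype)
    (b.linearIndependent.map' φ (LinearMap.ker_eq_bot.mpr hinj))
    (fun i j => (hφ _ _).symm)
  refine ⟨g, hg, fun a => ?_⟩
  exact LinearMap.congr_fun (b.ext hgb : g.toLinearMap ∘ₗ X.subtype = φ) a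

end CfsgLib.Forms.RForm
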