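import Mathlib.LinearAlgebra.Dual.Lemmas
import Mathlib.LinearAlgebra.FiniteDimensional.Basic
import Mathlib.LinearAlgebra.Dimension.Constructions

/-!
Reflexive `(σ, ε)`-forms (alternating, symmetric, Hermitian), written linear in the first variable.
-/

set_option autoImplicit false
set_option linter.style.haveILetI false

namespace CfsgLib.Forms

/-- A trace-valued `(σ, ε)`-Hermitian form, linear in the first variable. -/
structure RForm (F V : Type*) [Field F] [AddCommGroup V] [Module F V] where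
  /-- the form -/
  h : V → V → F
  /-- the involution -/
  σ : F →+* F
  /-- the sign -/
  ε : F
  σσ : ∀ a, σ (σ a) = a
  εσε : ε * σ ε = 1
  add_left : ∀ u v w, h (u + v) w = h u w + h v w
  smul_left : ∀ (c : F) u v, h (c • u) v = c * h u v
  swap : ∀ u v, h v u = ε * σ (h u v)
  trace_valued : ∀ v, ∃ t, h v v = t + ε * σ t

namespace RForm

variable {F V : Type*} [Field F] [AddCommGroup V] [Module F V] (Φ : RForm F V)

/-- Non-degeneracy. -/
def Nondeg : Prop := ∀ v, (∀ u, Φ.h u v = 0) → v = 0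

/-- A linear automorphism preserving the form. -/
def Preserves (g : V ≃ₗ[F] V) : Prop := ∀ u v, Φ.h (g u) (g v) = Φ.h u v

theorem ε_ne_zero : Φ.ε ≠ 0 := fun e => by have := Φ.εσε; rw [e, zero_mul] at this; exact zero_ne_one this

theorem σ_ε : Φ.σ Φ.ε = Φ.ε⁻¹ := eq_inv_of_mul_eq_one_right Φ.εσε

theorem σ_injective : Function.Injective Φ.σ := fun a b e => by
  have := congrArg Φ.σ e; rwa [Φ.σσ, Φ.σσ] at this

theorem σ_h (u v : V) : Φ.σ (Φ.h u v) = Φ.ε⁻¹ * Φ.h v u := by
  rw [Φ.swap u v, ← mul_assoc, inv_mul_cancel₀ Φ.ε_ne_zero, one_mul]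

theorem zero_left (v : V) : Φ.h 0 v = 0 := by
  have := Φ.smul_left 0 0 v; rwa [zero_smul, zero_mul] at this

theorem zero_right (v : V) : Φ.h v 0 = 0 := by rw [Φ.swap, Φ.zero_left, map_zero, mul_zero]

theorem add_right (u v w : V) : Φ.h u (v + w) = Φ.h u v + Φ.h u w := by
  rw [Φ.swap, Φ.add_left, map_add, mul_add, ← Φ.swap, ← Φ.swap]

theorem smul_right (c : F) (u v : V) : Φ.h u (c • v) = Φ.σ c * Φ.h u v := by
  rw [Φ.swap, Φ.smul_left, map_mul, Φ.swap v u]; ring

theorem neg_left (u v : V) : Φ.h (-u) v = -Φ.h u v := by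
  rw [← neg_one_smul F u, Φ.smul_left]; ring

theorem sub_left (u v w : V) : Φ.h (u - v) w = Φ.h u w - Φ.h v w := by
  rw [sub_eq_add_neg, Φ.add_left, Φ.neg_left, ← sub_eq_add_neg]

theorem sub_right (u v w : V) : Φ.h u (v - w) = Φ.h u v - Φ.h u w := by
  rw [Φ.swap, Φ.sub_left, map_sub, mul_sub, ← Φ.swap, ← Φ.swap]

theorem eq_zero_comm {u v : V} : Φ.h u v = 0 ↔ Φ.h v u = 0 := by
  constructor <;> intro e <;> rw [Φ.swap, e, map_zero, mul_zero]

theorem sum_right {α : Type*} (s : Finset α) (v : V) (w : α → V) :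
    Φ.h v (∑ i ∈ s, w i) = ∑ i ∈ s, Φ.h v (w i) := by
  classical
  induction s using Finset.induction_on with
  | empty => simp [Φ.zero_right]
  | insert a s ha ih => rw [Finset.sum_insert ha, Finset.sum_insert ha, Φ.add_right, ih]

/-- The functional `v ↦ h v u`. -/
def toDual (u : V) : Module.Dual F V where
  toFun v := Φ.h v u
  map_add' a b := Φ.add_left a b u
  map_smul' c a := Φ.smul_left c a u

variable [FiniteDimensional F V]

theorem exists_h_eq (hΦ : Φ.Nondeg) (f : Module.Dual F V) : ∃ u, ∀ v, Φ.h v u = f v := by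
  classical
  let b := Module.finBasis F V
  rcases Nat.eq_zero_or_pos (Module.finrank F V) with h0 | hpos
  · haveI : Subsingleton V := (Module.finrank_zero_iff (R := F)).mp h0
    exact ⟨0, fun v => by rw [Φ.zero_right, Subsingleton.elim v 0, map_zero]⟩
  haveI : Nonempty (Fin (Module.finrank F V)) := ⟨⟨0, hpos⟩⟩
  have hli : LinearIndependent F fun i => Φ.toDual (b i) := by
    rw [Fintype.linearIndependent_iff]
    intro c hc i
    have h0 : ∑ j, Φ.σ (c j) • b j = 0 := hΦ _ fun v => by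
      rw [Φ.sum_right]
      have := LinearMap.congr_fun hc v
      simp only [LinearMap.sum_apply, LinearMap.smul_apply, LinearMap.zero_apply] at this
      rw [← this]
      exact Finset.sum_congr rfl fun j _ => by rw [Φ.smul_right, Φ.σσ]; rfl
    have := Fintype.linearIndependent_iff.mp b.linearIndependent _ h0 i
    exact Φ.σ_injective (this.trans (map_zero _).symm)
  let B := basisOfLinearIndependentOfCardEqFinrank hli
    (by rw [Fintype.card_fin, Subspace.dual_finrank_eq])
  refine ⟨∑ i, Φ.σ (B.repr f i) • b i, fun v => ?_⟩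
  conv_rhs => rw [← B.sum_repr f]
  rw [Φ.sum_right, LinearMap.sum_apply]
  exact Finset.sum_congr rfl fun i _ => by
    rw [Φ.smul_right, Φ.σσ, LinearMap.smul_apply, coe_basisOfLinearIndependentOfCardEqFinrank,
      smul_eq_mul]
    rfl

theorem exists_perp_one (hΦ : Φ.Nondeg) {U : Submodule F V} {x : V} (hx : x ∉ U) :
    ∃ u, (∀ v ∈ U, Φ.h v u = 0) ∧ Φ.h x u = 1 := by
  obtain ⟨f, hf, hfU⟩ := Submodule.exists_dual_map_eq_bot_of_notMem hx inferInstance
  obtain ⟨u, hu⟩ := Φ.exists_h_eq hΦ ((f x)⁻¹ • f)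
  refine ⟨u, fun v hv => ?_, ?_⟩
  · rw [hu, LinearMap.smul_apply,
      show f v = 0 from (Submodule.mem_bot F).mp (hfU ▸ Submodule.mem_map_of_mem hv), smul_zero]
  · rw [hu, LinearMap.smul_apply, smul_eq_mul, inv_mul_cancel₀ hf]

/-- A linear map preserving a non-degenerate form, as an automorphism. -/
noncomputable def equivOf (hΦ : Φ.Nondeg) (T : V →ₗ[F] V)
    (hT : ∀ u v, Φ.h (T u) (T v) = Φ.h u v) : V ≃ₗ[F] V :=
  LinearEquiv.ofInjectiveEndo T (by
    rw [← LinearMap.ker_eq_bot, LinearMap.ker_eq_bot']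
    intro x hx
    exact hΦ x fun u => by rw [← hT, hx, Φ.zero_right])

theorem equivOf_apply (hΦ : Φ.Nondeg) (T : V →ₗ[F] V)
    (hT : ∀ u v, Φ.h (T u) (T v) = Φ.h u v) (v : V) : Φ.equivOf hΦ T hT v = T v := rfl

theorem equivOf_preserves (hΦ : Φ.Nondeg) (T : V →ₗ[F] V)
    (hT : ∀ u v, Φ.h (T u) (T v) = Φ.h u v) : Φ.Preserves (Φ.equivOf hΦ T hT) :=
  fun u v => hT u v

end RForm

end CfsgLib.Forms
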